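import Groth.Agent.Lib.Snapper.Main
import Groth.Agent.Lib.SheafVan16.Noetherian

/-!
# Growth of cohomology in a family of twists

For a family `F a` (`a ∈ ℤ^r`) of invertible modules on a proper scheme over a field with
`F (a + e_j) ≅ F a ⊗ L_j`, the dimensions of `H^i (G ⊗ F a)` are bounded by `C (|a| + 1) ^ d`,
where `d` bounds the dimension of the support of `G`.
-/

set_option autoImplicit false
set_option linter.style.haveILetI false
set_option maxHeartbeats 1000000
set_option backward.isDefEq.respectTransparency false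
set_option backward.isDefEq.respectTransparency.types false

universe u

open CategoryTheory CategoryTheory.Limits AlgebraicGeometry TopologicalSpace Opposite

namespace Groth.Agent.Growth13

open Groth.Agent CohFound
open Groth.Agent.CurveCoh17 (hmap hdelta hmap_f_injective exact_hmap_hmap exact_hmap_hdelta exact_hdelta_hmap
  finrank_eq_range_add_range)

variable {X : Scheme.{u}}

theorem subsingleton_HH_of_isZero {M : X.Modules} (h : IsZero M) (n : ℕ) : Subsingleton (Coh.HH X M n) :=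
  (CohFound.subsingleton_HH_iff M n).2 (SheafVan16.subsingleton_hc_of_isZero ((CohFound.abF X).map_isZero h) n _)

variable (k : Type u) [Field k] [X.Over (Spec (CommRingCat.of k))] [IsProper (X ↘ Spec (CommRingCat.of k))]

/-- The dimension of the `i`-th cohomology. -/
noncomputable def hdim (M : X.Modules) (i : ℕ) : ℕ := Module.finrank k (Coh.HH X M i)

omit [IsProper (X ↘ Spec (CommRingCat.of k))] in
theorem hdim_iso {M N : X.Modules} (e : M ≅ N) (i : ℕ) : hdim k M i = hdim k N i :=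
  (CurveCoh17.hequiv k e i).finrank_eq

theorem hdim_of_support_empty {M : X.Modules} (h : CohB1.support M = ∅) (i : ℕ) : hdim k M i = 0 := by
  haveI := subsingleton_HH_of_isZero (Snapper.isZero_of_support_empty h) i
  exact Module.finrank_zero_of_subsingleton

theorem exists_hdim_bound {M : X.Modules} (hM : Coh.IsCoh M) : ∃ C : ℕ, ∀ i, hdim k M i ≤ C := by
  obtain ⟨N, hN⟩ := EulerAdd18.exists_bdd k X
  refine ⟨(Finset.range (N + 1)).sup (hdim k M), fun i => ?_⟩
  by_cases hi : i < N + 1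
  · exact Finset.le_sup (f := hdim k M) (Finset.mem_range.2 hi)
  · haveI := (hN M hM).vanish i (not_lt.1 hi)
    exact (Module.finrank_zero_of_subsingleton (R := k) (M := Coh.HH X M i)).trans_le (Nat.zero_le _)

variable {k}

section SES

variable {S : ShortComplex X.Modules} (hS : S.ShortExact) (h1 : Coh.IsCoh S.X₁) (h2 : Coh.IsCoh S.X₂)
  (h3 : Coh.IsCoh S.X₃)
include hS h1 h2 h3

theorem hdim_mid_le (i : ℕ) : hdim k S.X₂ i ≤ hdim k S.X₁ i + hdim k S.X₃ i := by
  haveI := finite_HH_of_isProper (A := k) S.X₁ h1 i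
  haveI := finite_HH_of_isProper (A := k) S.X₂ h2 i
  haveI := finite_HH_of_isProper (A := k) S.X₃ h3 i
  rw [hdim, finrank_eq_range_add_range _ _ (exact_hmap_hmap k hS i)]
  exact add_le_add (LinearMap.finrank_range_le _) (Submodule.finrank_le _)

theorem hdim_right_le (i : ℕ) : hdim k S.X₃ i ≤ hdim k S.X₂ i + hdim k S.X₁ (i + 1) := by
  haveI := finite_HH_of_isProper (A := k) S.X₁ h1 (i + 1)
  haveI := finite_HH_of_isProper (A := k) S.X₂ h2 i
  haveI := finite_HH_of_isProper (A := k) S.X₃ h3 i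
  rw [hdim, finrank_eq_range_add_range _ _ (exact_hmap_hdelta k hS i)]
  exact add_le_add (LinearMap.finrank_range_le _) (Submodule.finrank_le _)

theorem hdim_left_le (i : ℕ) : hdim k S.X₁ i ≤ hdim k S.X₂ i + hdim k S.X₃ (i - 1) := by
  haveI := finite_HH_of_isProper (A := k) S.X₁ h1 i
  haveI := finite_HH_of_isProper (A := k) S.X₂ h2 i
  cases i with
  | zero =>
    exact (LinearMap.finrank_le_finrank_of_injective (hmap_f_injective k hS)).trans (Nat.le_add_right _ _)
  | succ n =>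
    haveI := finite_HH_of_isProper (A := k) S.X₃ h3 n
    rw [hdim, finrank_eq_range_add_range _ _ (exact_hdelta_hmap k hS n), add_comm]
    exact add_le_add (Submodule.finrank_le _) (LinearMap.finrank_range_le _)

end SES

/-- The twist of a short exact sequence of coherent modules by an invertible module. -/
theorem ses_tensor {S : ShortComplex X.Modules} (hS : S.ShortExact) (h1 : Coh.IsCoh S.X₁)
    (h2 : Coh.IsCoh S.X₂) (h3 : Coh.IsCoh S.X₃) {T : X.Modules} (hT : PicF.IsInvertible T) :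
    (S.map (M2.tensorR T)).ShortExact ∧ Coh.IsCoh (S.map (M2.tensorR T)).X₁ ∧
      Coh.IsCoh (S.map (M2.tensorR T)).X₂ ∧ Coh.IsCoh (S.map (M2.tensorR T)).X₃ := by
  have hTc := Snapper.isCoh_of_isInvertible hT
  exact ⟨CurveCoh17.shortExact_tensorR hS T (Snapper.flat_stalk hT), CurveCoh17.isCoh_tensor h1 hTc,
    CurveCoh17.isCoh_tensor h2 hTc, CurveCoh17.isCoh_tensor h3 hTc⟩

theorem hdim_mid_tensor_le {S : ShortComplex X.Modules} (hS : S.ShortExact) (h1 : Coh.IsCoh S.X₁)
    (h2 : Coh.IsCoh S.X₂) (h3 : Coh.IsCoh S.X₃) {T : X.Modules} (hT : PicF.IsInvertible T) (i : ℕ) :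
    hdim k (CohB1.tensorMod S.X₂ T) i ≤
      hdim k (CohB1.tensorMod S.X₁ T) i + hdim k (CohB1.tensorMod S.X₃ T) i := by
  obtain ⟨e, a, b, c⟩ := ses_tensor hS h1 h2 h3 hT
  exact hdim_mid_le e a b c i

theorem hdim_right_tensor_le {S : ShortComplex X.Modules} (hS : S.ShortExact) (h1 : Coh.IsCoh S.X₁)
    (h2 : Coh.IsCoh S.X₂) (h3 : Coh.IsCoh S.X₃) {T : X.Modules} (hT : PicF.IsInvertible T) (i : ℕ) :
    hdim k (CohB1.tensorMod S.X₃ T) i ≤
      hdim k (CohB1.tensorMod S.X₂ T) i + hdim k (CohB1.tensorMod S.X₁ T) (i + 1) := by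
  obtain ⟨e, a, b, c⟩ := ses_tensor hS h1 h2 h3 hT
  exact hdim_right_le e a b c i

theorem hdim_left_tensor_le {S : ShortComplex X.Modules} (hS : S.ShortExact) (h1 : Coh.IsCoh S.X₁)
    (h2 : Coh.IsCoh S.X₂) (h3 : Coh.IsCoh S.X₃) {T : X.Modules} (hT : PicF.IsInvertible T) (i : ℕ) :
    hdim k (CohB1.tensorMod S.X₁ T) i ≤
      hdim k (CohB1.tensorMod S.X₂ T) i + hdim k (CohB1.tensorMod S.X₃ T) (i - 1) := by
  obtain ⟨e, a, b, c⟩ := ses_tensor hS h1 h2 h3 hT
  exact hdim_left_le e a b c i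

/-- A map whose kernel and cokernel have small cohomology changes the cohomology little. -/
theorem hdim_tensor_hom {W N : X.Modules} (φ : W ⟶ N) (hW : Coh.IsCoh W) (hN : Coh.IsCoh N)
    {T : X.Modules} (hT : PicF.IsInvertible T) {B : ℕ}
    (hK : ∀ i, hdim k (CohB1.tensorMod (kernel φ) T) i ≤ B)
    (hC : ∀ i, hdim k (CohB1.tensorMod (cokernel φ) T) i ≤ B) (i : ℕ) :
    hdim k (CohB1.tensorMod W T) i ≤ hdim k (CohB1.tensorMod N T) i + 2 * B ∧
      hdim k (CohB1.tensorMod N T) i ≤ hdim k (CohB1.tensorMod W T) i + 2 * B := by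
  haveI : IsNoetherian X := CohFound.isNoetherian_of_isProper (X ↘ (Spec (CommRingCat.of k)))
  have cK : Coh.IsCoh (kernel φ) := CurveCoh17.isCoh_kernel hW hN.1 φ
  have cC : Coh.IsCoh (cokernel φ) := M1.isCoh_cokernel hW.1 hN φ
  have cI : Coh.IsCoh (Abelian.image φ) := CurveCoh17.isCoh_kernel hN cC.1 _
  have a1 := hdim_mid_tensor_le (k := k) (CurveCoh17.kerSC_shortExact φ) cK hW cI hT i
  have a2 := hdim_mid_tensor_le (k := k) (CurveCoh17.cokerSC_shortExact φ) cI hN cC hT i
  have a3 := hdim_left_tensor_le (k := k) (CurveCoh17.cokerSC_shortExact φ) cI hN cC hT i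
  have a4 := hdim_right_tensor_le (k := k) (CurveCoh17.kerSC_shortExact φ) cK hW cI hT i
  have b1 := hK i
  have b2 := hC i
  have b3 := hC (i - 1)
  have b4 := hK (i + 1)
  simp only at a1 a2 a3 a4
  constructor <;> omega

variable {r : ℕ}

/-- The size of a twist. -/
def wt (a : Fin r → ℤ) : ℕ := ∑ j, (a j).natAbs

/-- A nonnegative function on `ℤ^r` with steps bounded by `D (|a| + 1) ^ e` is bounded by
`C (|a| + 1) ^ (e + 1)`. -/
theorem le_of_step (g : (Fin r → ℤ) → ℕ) {g₀ D e : ℕ} (h₀ : g 0 ≤ g₀)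
    (hup : ∀ a j, g (a + Pi.single j 1) ≤ g a + D * (wt a + 1) ^ e)
    (hdown : ∀ a j, g a ≤ g (a + Pi.single j 1) + D * (wt a + 1) ^ e) :
    ∀ (m : ℕ) (a : Fin r → ℤ), wt a = m → g a ≤ g₀ + D * m * (m + 1) ^ e := by
  intro m
  induction m with
  | zero =>
    intro a ha
    have h : a = 0 := funext fun j => by
      simpa [Int.natAbs_eq_zero] using Finset.sum_eq_zero_iff.1 ha j (Finset.mem_univ j)
    subst h
    simpa using h₀
  | succ m ih =>
    intro a ha
    obtain ⟨j, -, hj⟩ := Finset.exists_ne_zero_of_sum_ne_zero (ha.trans_ne (Nat.succ_ne_zero m))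
    have hsplit : ∀ b : Fin r → ℤ, (∀ i, i ≠ j → b i = a i) →
        wt b + (a j).natAbs = wt a + (b j).natAbs := by
      intro b hb
      simp only [wt, ← Finset.add_sum_erase Finset.univ _ (Finset.mem_univ j)]
      rw [Finset.sum_congr rfl fun i hi => by rw [hb i (Finset.ne_of_mem_erase hi)]]
      omega
    have hpow : (m + 1) ^ e ≤ (m + 1 + 1) ^ e := Nat.pow_le_pow_left (Nat.le_succ _) e
    have hfin : ∀ b : Fin r → ℤ, wt b = m → g a ≤ g b + D * (m + 1 + 1) ^ e →
        g a ≤ g₀ + D * (m + 1) * (m + 1 + 1) ^ e := fun b hb hle => by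
      have h1 := ih b hb
      have h2 : D * m * (m + 1) ^ e ≤ D * m * (m + 1 + 1) ^ e := Nat.mul_le_mul_left _ hpow
      have h3 : D * (m + 1) * (m + 1 + 1) ^ e = D * m * (m + 1 + 1) ^ e + D * (m + 1 + 1) ^ e := by ring
      omega
    rcases lt_or_gt_of_ne (Int.natAbs_ne_zero.1 hj) with hneg | hpos
    · have hb := hsplit (a + Pi.single j 1) fun i hi => by simp [hi]
      have hbm : wt (a + Pi.single j 1) = m := by
        simp only [Pi.add_apply, Pi.single_eq_same] at hb
        omega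
      refine hfin _ hbm ((hdown a j).trans ?_)
      rw [ha]
    · let b := a - Pi.single j 1
      have hb := hsplit b fun i hi => by simp [b, hi]
      have hbm : wt b = m := by
        simp only [b, Pi.sub_apply, Pi.single_eq_same] at hb ⊢
        omega
      refine hfin b hbm ?_
      have hab : b + Pi.single j 1 = a := sub_add_cancel a _
      have := hup b j
      rw [hab, hbm] at this
      exact this.trans (Nat.add_le_add_left (Nat.mul_le_mul_left _ hpow) _)

variable (k) in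
/-- `H^i (G ⊗ F a)` is `O (|a| ^ d)`. -/
def Bdd (F : (Fin r → ℤ) → X.Modules) (d : ℕ) (G : X.Modules) : Prop :=
  ∃ C : ℕ, ∀ i a, hdim k (CohB1.tensorMod G (F a)) i ≤ C * (wt a + 1) ^ d

variable {F : (Fin r → ℤ) → X.Modules}

omit [IsProper (X ↘ Spec (CommRingCat.of k))] in
theorem Bdd.of_iso {d : ℕ} {M N : X.Modules} (e : M ≅ N) (h : Bdd k F d M) : Bdd k F d N := by
  obtain ⟨C, hC⟩ := h
  exact ⟨C, fun i a => (hdim_iso k (M2.tensorIso e (Iso.refl (F a))) i).symm.trans_le (hC i a)⟩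

theorem Bdd.of_support_empty {d : ℕ} {G : X.Modules} (h : CohB1.support G = ∅) : Bdd k F d G :=
  ⟨0, fun i a => (hdim_of_support_empty k
    (Set.subset_empty_iff.1 (h ▸ Snapper.support_tensor_subset G (F a))) i).trans_le (Nat.zero_le _)⟩

theorem twoOfThreeOn_bdd (hF : ∀ a, PicF.IsInvertible (F a)) (d : ℕ) (Z₀ : Set X) :
    TwoOfThreeOn (Bdd k F d) Z₀ where
  of_isZero M _ hz := Bdd.of_support_empty (Set.eq_empty_of_forall_notMem fun x hx =>
    hx (AddCommGrpCat.subsingleton_of_isZero ((M1.stalkAb x).map_isZero hz)))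
  mid S hS h1 h2 h3 _ p1 p3 := by
    obtain ⟨C1, c1⟩ := p1
    obtain ⟨C3, c3⟩ := p3
    exact ⟨C1 + C3, fun i a => (hdim_mid_tensor_le hS h1 h2 h3 (hF a) i).trans
      ((add_le_add (c1 i a) (c3 i a)).trans_eq (add_mul _ _ _).symm)⟩
  left S hS h1 h2 h3 _ p2 p3 := by
    obtain ⟨C2, c2⟩ := p2
    obtain ⟨C3, c3⟩ := p3
    exact ⟨C2 + C3, fun i a => (hdim_left_tensor_le hS h1 h2 h3 (hF a) i).trans
      ((add_le_add (c2 i a) (c3 _ a)).trans_eq (add_mul _ _ _).symm)⟩
  right S hS h1 h2 h3 _ p1 p2 := by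
    obtain ⟨C1, c1⟩ := p1
    obtain ⟨C2, c2⟩ := p2
    exact ⟨C2 + C1, fun i a => (hdim_right_tensor_le hS h1 h2 h3 (hF a) i).trans
      ((add_le_add (c2 i a) (c1 _ a)).trans_eq (add_mul _ _ _).symm)⟩

variable (k) in
/-- A coherent module with support of dimension at most `d` has `O (|a| ^ d)` cohomology in the family. -/
theorem bdd {L : Fin r → X.Modules} (hL : ∀ j, PicF.IsInvertible (L j)) (hF : ∀ a, PicF.IsInvertible (F a))
    (hstep : ∀ a j, Nonempty (F (a + Pi.single j 1) ≅ CohB1.tensorMod (F a) (L j))) :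
    ∀ (d : ℕ) (G : X.Modules), Coh.IsCoh G →
      topologicalKrullDim (CohB1.support G) ≤ (d : WithBot ℕ∞) → Bdd k F d G := by
  haveI : IsNoetherian X := CohFound.isNoetherian_of_isProper (X ↘ (Spec (CommRingCat.of k)))
  have hsep : X.IsSeparated := CurveAmple18.isSeparated k X
  intro d
  induction d using Nat.strong_induction_on with
  | _ d IH =>
  intro M hM hdim'
  refine (twoOfThreeOn_bdd hF d (CohB1.support M)).holds (fun η hη => ?_) hM subset_rfl
  obtain ⟨Z, i, hi, hZ, hr, hηi, -⟩ := exists_integral_point η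
  haveI : IsLocallyNoetherian Z := LocallyOfFiniteType.isLocallyNoetherian i
  subst hηi
  obtain ⟨g, hg, hgen, hkill⟩ := exists_cyclic_push_structureModule i
  let G := (Scheme.Modules.pushforward i).obj (Coh.structureModule Z)
  have hG : Coh.IsCoh G := isCoh_push_closedImm i (M1.isCoh_structureModule Z)
  have hGs : CohB1.support G ⊆ closure {i (genericPoint Z)} := (CohFound.support_push_subset i _).trans hr.le
  refine ⟨HasModel.ofCyclic (fun M N h p => Bdd.of_iso h.some p) G hG hGs g hg hgen hkill ?_⟩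
  have hdη : topologicalKrullDim (closure ({i (genericPoint Z)} : Set X)) ≤ (d : WithBot ℕ∞) :=
    Snapper.dim_le_of_subset ((M1.isClosed_support hM.2).closure_subset_iff.2
      (Set.singleton_subset_iff.2 hη)) hdim'
  -- the bound for the modules supported away from the generic point
  obtain ⟨e, he, hsmall⟩ : ∃ e : ℕ, (d = 0 ∨ d = e + 1) ∧ ∀ (K : X.Modules) (C : Set X), Coh.IsCoh K →
      IsClosed C → CohB1.support K ⊆ C → C ⊆ closure {i (genericPoint Z)} → i (genericPoint Z) ∉ C →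
      ∃ B : ℕ, ∀ n a, hdim k (CohB1.tensorMod K (F a)) n ≤ B * (wt a + 1) ^ e ∧ (d = 0 → B = 0) := by
    rcases d with _ | d'
    · refine ⟨0, Or.inl rfl, fun K C _ hC hKC hCs hηC => ⟨0, fun n a => ⟨?_, fun _ => rfl⟩⟩⟩
      refine (hdim_of_support_empty k (Set.subset_empty_iff.1 ?_) n).trans_le (Nat.zero_le _)
      exact ((Snapper.support_tensor_subset _ _).trans hKC).trans
        (Snapper.eq_empty_of_notMem hC hCs hηC (by simpa using hdη)).le
    · refine ⟨d', Or.inr rfl, fun K C hK hC hKC hCs hηC => ?_⟩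
      obtain ⟨B, hB⟩ := IH d' (Nat.lt_succ_self _) K hK
        (Snapper.dim_le_of_subset hKC (Snapper.dim_le_of_notMem hC hCs hηC hdη))
      exact ⟨B, fun n a => ⟨hB n a, fun h => absurd h (Nat.succ_ne_zero _)⟩⟩
  have hdiff : ∀ j : Fin r, ∃ D : ℕ, (d = 0 → D = 0) ∧ ∀ n a,
      hdim k (CohB1.tensorMod G (F (a + Pi.single j 1))) n ≤
        hdim k (CohB1.tensorMod G (F a)) n + D * (wt a + 1) ^ e ∧
      hdim k (CohB1.tensorMod G (F a)) n ≤
        hdim k (CohB1.tensorMod G (F (a + Pi.single j 1))) n + D * (wt a + 1) ^ e := by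
    intro j
    have hLj := Snapper.isCoh_of_isInvertible (hL j)
    have hG' : Coh.IsCoh (CohB1.tensorMod G (L j)) := CurveCoh17.isCoh_tensor hG hLj
    obtain ⟨V, hηV, ⟨eV⟩⟩ := hL j (i (genericPoint Z))
    obtain ⟨U, hU, hηU, hUV⟩ := exists_isAffineOpen_mem_and_subset (U := V) hηV
    obtain ⟨eU⟩ := M2.nonempty_trivial_mono hUV eV
    obtain ⟨W, φ, ψ, hW, k1, c1, k2, c2⟩ := Snapper.exists_zigzag hsep hG hG' hGs
      ((Snapper.support_tensor_subset G _).trans hGs) hU hηU
      (M2.restrictTensorIso U.ι G (L j) ≪≫ M2.tensorIso (Iso.refl _) eU ≪≫ M2.tensorRUnit _)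
    have hC : IsClosed (closure {i (genericPoint Z)} \ (U : Set X)) := isClosed_closure.sdiff U.isOpen
    have small : ∀ K : X.Modules, Coh.IsCoh K →
        CohB1.support K ⊆ closure {i (genericPoint Z)} \ (U : Set X) →
        ∃ B : ℕ, ∀ n a, hdim k (CohB1.tensorMod K (F a)) n ≤ B * (wt a + 1) ^ e ∧ (d = 0 → B = 0) :=
      fun K hK hs => hsmall K _ hK hC hs Set.sdiff_subset fun h => h.2 hηU
    obtain ⟨B1, hB1⟩ := small _ (CurveCoh17.isCoh_kernel hW hG.1 φ) k1
    obtain ⟨B2, hB2⟩ := small _ (M1.isCoh_cokernel hW.1 hG φ) c1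
    obtain ⟨B3, hB3⟩ := small _ (CurveCoh17.isCoh_kernel hW hG'.1 ψ) k2
    obtain ⟨B4, hB4⟩ := small _ (M1.isCoh_cokernel hW.1 hG' ψ) c2
    refine ⟨2 * (B1 + B2) + 2 * (B3 + B4), fun h => ?_, fun n a => ?_⟩
    · simp [(hB1 0 0).2 h, (hB2 0 0).2 h, (hB3 0 0).2 h, (hB4 0 0).2 h]
    · obtain ⟨f⟩ := hstep a j
      rw [hdim_iso k (M2.tensorIso (Iso.refl G) (f ≪≫ M2.tensorComm _ _) ≪≫ (M2.tensorAssoc _ _ _).symm) n]
      have h1 := hdim_tensor_hom (k := k) φ hW hG (hF a) (B := (B1 + B2) * (wt a + 1) ^ e)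
        (fun m => (hB1 m a).1.trans (Nat.mul_le_mul_right _ (Nat.le_add_right _ _)))
        (fun m => (hB2 m a).1.trans (Nat.mul_le_mul_right _ (Nat.le_add_left _ _))) n
      have h2 := hdim_tensor_hom (k := k) ψ hW hG' (hF a) (B := (B3 + B4) * (wt a + 1) ^ e)
        (fun m => (hB3 m a).1.trans (Nat.mul_le_mul_right _ (Nat.le_add_right _ _)))
        (fun m => (hB4 m a).1.trans (Nat.mul_le_mul_right _ (Nat.le_add_left _ _))) n
      have h3 : (2 * (B1 + B2) + 2 * (B3 + B4)) * (wt a + 1) ^ e =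
          2 * ((B1 + B2) * (wt a + 1) ^ e) + 2 * ((B3 + B4) * (wt a + 1) ^ e) := by ring
      omega
  choose D hD0 hD using hdiff
  obtain ⟨g₀, hg₀⟩ := exists_hdim_bound k (CurveCoh17.isCoh_tensor hG (Snapper.isCoh_of_isInvertible (hF 0)))
  refine ⟨g₀ + ∑ j, D j, fun n a => ?_⟩
  have hle : ∀ (j : Fin r) (x : ℕ), D j * x ≤ (∑ l, D l) * x := fun j x =>
    Nat.mul_le_mul_right _ (Finset.single_le_sum (fun l _ => Nat.zero_le (D l)) (Finset.mem_univ j))
  have key := le_of_step (fun b => hdim k (CohB1.tensorMod G (F b)) n) (hg₀ n) (D := ∑ l, D l) (e := e)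
    (fun b j => (hD j n b).1.trans (Nat.add_le_add_left (hle j _) _))
    (fun b j => (hD j n b).2.trans (Nat.add_le_add_left (hle j _) _)) (wt a) a rfl
  refine key.trans ?_
  rcases he with rfl | rfl
  · simp [Finset.sum_eq_zero fun j _ => hD0 j rfl]
  · have h1 : g₀ ≤ g₀ * (wt a + 1) ^ (e + 1) := Nat.le_mul_of_pos_right _ (Nat.pow_pos (Nat.succ_pos _))
    have h2 : (∑ j, D j) * wt a * (wt a + 1) ^ e ≤ (∑ j, D j) * (wt a + 1) ^ (e + 1) := by
      rw [pow_succ', mul_assoc]
      exact Nat.mul_le_mul_left _ (Nat.mul_le_mul_right _ (Nat.le_succ _))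
    rw [add_mul]
    exact add_le_add h1 h2

/-- The members of a twisting family starting at `O` are invertible. -/
theorem isInvertible_family {L : Fin r → X.Modules} (hL : ∀ j, PicF.IsInvertible (L j))
    (h₀ : Nonempty (F 0 ≅ Coh.structureModule X))
    (hstep : ∀ a j, Nonempty (F (a + Pi.single j 1) ≅ CohB1.tensorMod (F a) (L j))) :
    ∀ (m : ℕ) (a : Fin r → ℤ), wt a = m → PicF.IsInvertible (F a) := by
  intro m
  induction m with
  | zero =>
    intro a ha
    have h : a = 0 := funext fun j => by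
      simpa [Int.natAbs_eq_zero] using Finset.sum_eq_zero_iff.1 ha j (Finset.mem_univ j)
    subst h
    exact M2.isInvertible_of_iso h₀.some.symm (PicLoc.isInvertible_structureModule X)
  | succ m ih =>
    intro a ha
    obtain ⟨j, -, hj⟩ := Finset.exists_ne_zero_of_sum_ne_zero (ha.trans_ne (Nat.succ_ne_zero m))
    have hsplit : ∀ b : Fin r → ℤ, (∀ i, i ≠ j → b i = a i) →
        wt b + (a j).natAbs = wt a + (b j).natAbs := by
      intro b hb
      simp only [wt, ← Finset.add_sum_erase Finset.univ _ (Finset.mem_univ j)]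
      rw [Finset.sum_congr rfl fun i hi => by rw [hb i (Finset.ne_of_mem_erase hi)]]
      omega
    rcases lt_or_gt_of_ne (Int.natAbs_ne_zero.1 hj) with hneg | hpos
    · have hb := hsplit (a + Pi.single j 1) fun i hi => by simp [hi]
      have hbm : wt (a + Pi.single j 1) = m := by
        simp only [Pi.add_apply, Pi.single_eq_same] at hb
        omega
      obtain ⟨L', hL', ⟨e⟩⟩ := M2.exists_inverse (hL j)
      obtain ⟨f⟩ := hstep a j
      exact M2.isInvertible_of_iso (M2.tensorIso f (Iso.refl L') ≪≫ M2.tensorAssoc _ _ _ ≪≫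
        M2.tensorIso (Iso.refl _) e ≪≫ M2.tensorRUnit _) (M2.isInvertible_tensor (ih _ hbm) hL')
    · have hb := hsplit (a - Pi.single j 1) fun i hi => by simp [hi]
      have hbm : wt (a - Pi.single j 1) = m := by
        simp only [Pi.sub_apply, Pi.single_eq_same] at hb ⊢
        omega
      obtain ⟨f⟩ := hstep (a - Pi.single j 1) j
      exact M2.isInvertible_of_iso ((eqToIso (congrArg F (sub_add_cancel a (Pi.single j 1)))).symm ≪≫ f).symm
        (M2.isInvertible_tensor (ih _ hbm) (hL j))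

end Groth.Agent.Growth13
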